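import Cfsg.Agent.H76.RG.E8Tab
import Cfsg.Agent.H875.RG.Four
import Cfsg.Agent.H931.KC.PPCard
import Cfsg.Agent.H550.RG.CntD

/-!
# S3509, `E₈`: the elements of prime order (helper76)

* `rset`, `tset` : the root system `Sx t` of a toral form with the action of `θ` (any type);
* `card_PP` : the group `PP` is trivial for `E₈`;
* `cls` : the centraliser is small, or `A₄A₄`, or there is a good root (`Hi`).
-/

set_option autoImplicit false
set_option linter.unusedSectionVars false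

namespace Cfsg.Agent.H76.RG

open CoxeterSystem Cfsg Cfsg.Lie Cfsg.Lie.ChevalleyDatum
open Cfsg.Agent.ChevalleyStructure Cfsg.Agent.ChevalleyStructure.Elts Cfsg.Agent.ChevalleyStructure.CoxeterGeom
  Cfsg.Agent.ChevalleyStructure.CoxeterGeomTypes Cfsg.Agent.ChevalleyStructure.NPerm
open Cfsg.Agent.Tits.Roots Cfsg.Agent.Tits.Core Cfsg.Agent.Nodes Cfsg.Agent.Nodes.Reps Cfsg.Agent.Nodes.BNOf
  Cfsg.Agent.Nodes.RGDChev Cfsg.Agent.Nodes.Bruhat Cfsg.Agent.Nodes.Coroot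
open Cfsg.Agent.KFacts.RgdField Cfsg.Agent.KFacts.RgdChevCoord Cfsg.Agent.BpExc.TorCent Cfsg.Agent.BpExc.TorChev
open Cfsg.Agent.H129.TorusChar Cfsg.Agent.H129.WData
open Cfsg.Agent.BpExc Cfsg.Agent.BpExc.Tow Cfsg.Agent.BpExc.TowChev Cfsg.Agent.BpExc.Fr Cfsg.Agent.BpExc.Pair
  Cfsg.Agent.BpExc.LangFr Cfsg.Agent.GpExc.Field Cfsg.Agent.BpExc.NInst Cfsg.Agent.H461.E2.Sup Cfsg.Agent.H469.Exc
open Cfsg.Agent.H931.KC

universe u v

section

variable {D : ChevalleyDatum} {l : ℕ} {M : CoxeterMatrix (Fin l)} {hp : IsType D l M}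

theorem mem_Sx_iff {k : Type u} [Field k] {t : ↥(D.group k)} (ht : t ∈ TT D k) (a : Fin l → ℤ) :
    a ∈ Sx M.toCoxeterSystem hp.isCartan (ch hp) t ↔ IsRoot M.toCoxeterSystem hp.isCartan a ∧ cX hp t a = 1 := by
  constructor
  · rintro ⟨h1, h2⟩
    exact ⟨h1, by rw [cX_root hp M.toCoxeterSystem ht h1]; exact h2⟩
  · rintro ⟨h1, h2⟩
    exact ⟨h1, by rw [← cX_root hp M.toCoxeterSystem ht h1]; exact h2⟩

theorem rset_Sx [Finite M.Group] {k : Type u} [Field k] {t : ↥(D.group k)} (ht : t ∈ TT D k) :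
    RSet M.toCoxeterSystem hp.isCartan (Sx M.toCoxeterSystem hp.isCartan (ch hp) t) := by
  have hX := isMC_cX hp ht
  refine ⟨fun a ha => ha.1, fun a ha => ?_, fun a ha b hb hab => ?_, fun a ha b hb => ?_⟩
  · rw [mem_Sx_iff ht] at ha ⊢
    exact ⟨ha.1.neg, by rw [hX.neg, ha.2, inv_one]⟩
  · rw [mem_Sx_iff ht] at ha hb ⊢
    exact ⟨hab, by rw [hX.add, ha.2, hb.2, one_mul]⟩
  · rw [mem_Sx_iff ht] at ha hb ⊢
    exact ⟨isRoot_refl _ _ ha.1 hb.1, by rw [hX.sub, hX.zsmul, ha.2, hb.2, one_zpow, div_one]⟩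

variable {r q : ℕ} [hr : Fact r.Prime] {K₀ : Type v} [Group K₀] {m : H316.U6.MData hp r q K₀} {s : ↥(D.group (KK r))}

theorem rset [Finite M.Group] (f : H169.RG.TorForm m s) :
    RSet M.toCoxeterSystem hp.isCartan (Sx M.toCoxeterSystem hp.isCartan (ch hp) f.t) := rset_Sx f.mem

theorem tset (f : H169.RG.TorForm m s) :
    TSet M.toCoxeterSystem hp.isCartan (Sx M.toCoxeterSystem hp.isCartan (ch hp) f.t) f.θ := ⟨f.fr.root, f.stab, f.pos⟩

end

namespace E8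

variable {M : CoxeterMatrix (Fin 8)} {hp : IsType chevE8 8 M} {r q : ℕ} [hr : Fact r.Prime] {K₀ : Type v} [Group K₀]
  {m : H316.U6.MData hp r q K₀} {s : ↥(chevE8.group (KK r))}

theorem cast_ne {l : ℕ} (hl : l.Prime) (hlr : l ≠ r) : ((l : ℕ) : KK r) ≠ 0 := by
  intro h
  exact hlr ((Nat.prime_dvd_prime_iff_eq hr.out hl).1 ((CharP.cast_eq_zero_iff (KK r) r l).1 h)).symm

theorem card_PP [Finite M.Group] (f : H169.RG.TorForm m s) {l : ℕ} (hl : l.Prime) (hlr : l ≠ r) (hs : s ^ l = 1) :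
    Nat.card ↥(PP M.toCoxeterSystem hp.isCartan (ch hp) f.t) ≤ 1 := by
  have h := card_PP_le hp (cast_ne hl hlr) f.mem (f.pow_eq_one hs)
  rwa [card_mk, nmk_E8] at h

/-- **A good root** -/
def Hi (f : H169.RG.TorForm m s) : Prop :=
  ∃ β ∈ Sx M.toCoxeterSystem hp.isCartan (ch hp) f.t, 0 ≤ β ∧ f.θ β = β ∧
    6 ≤ nb M.toCoxeterSystem hp.isCartan (Sx M.toCoxeterSystem hp.isCartan (ch hp) f.t) β ∧
    ∀ a ∈ Sx M.toCoxeterSystem hp.isCartan (ch hp) f.t, 0 ≤ a → ¬ IsRoot M.toCoxeterSystem hp.isCartan (β + a)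

/-- **The classes of elements of prime order.** -/
theorem cls [Finite M.Group] (f : H169.RG.TorForm m s) {l : ℕ} (hl : l.Prime) (hlr : l ≠ r) (hs : s ^ l = 1) :
    (H28.RG.SP M.toCoxeterSystem hp.isCartan (ch hp) f.t).ncard ≤ 13 ∨
    (l = 5 ∧ (H28.RG.SP M.toCoxeterSystem hp.isCartan (ch hp) f.t).ncard = 20 ∧
      (Sx M.toCoxeterSystem hp.isCartan (ch hp) f.t).ncard = 40) ∨ Hi f := by
  obtain ⟨ζ, w, c, c0, hζ, K, h1, h2⟩ := exists_kac hp (cast_ne hl hlr) f.mem (f.pow_eq_one hs)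
  have hS := rset f
  rcases e8_table hp M.toCoxeterSystem hS w c c0 K.ne h2 with h3 | ⟨h3, h4, h5⟩ | ⟨h3, h4, -⟩
  · exact Or.inl h3
  · refine Or.inr (Or.inl ⟨?_, h3, ?_⟩)
    · have h6 := K.sum
      rw [h4, Finset.sum_eq_single (4 : Fin 8) (fun i _ hi => by rw [(h5 i).2 hi]; simp)
        (fun h => absurd (Finset.mem_univ _) h), hr8] at h6
      have h7 : ((c 4 : ℤ)) * 5 = l := by
        rw [← h6]
        simp
        ring
      have h8 : 5 ∣ l := ⟨c 4, by exact_mod_cast (by rw [mul_comm]; exact h7.symm : (l : ℤ) = 5 * (c 4 : ℤ))⟩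
      exact ((Nat.prime_dvd_prime_iff_eq (by norm_num) hl).1 h8).symm
    · rw [ncard_pos hS, h3]
  · exact Or.inr (Or.inr (high_nb (Cfsg.Agent.H897.IF.sl8 hp M.toCoxeterSystem) hS (tset f) 6 h3 h4))

end E8

end Cfsg.Agent.H76.RG
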