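import Cfsg.Agent.H76.RG.Sx
import Cfsg.Agent.H76.RG.E8Chk
import Cfsg.Agent.H897.IF.ETab
import Cfsg.Agent.H931.KC.Alcove

/-!
# S3509, `E₈`: the table of the subsets of the extended diagram (helper76)

`e8_table` : for the root system `Φ_t`, `t` with Kac coordinates `c`, `c0`: at most `26` roots, or `A₄A₄`, or the roots with at
least six neighbours form a connected part with at least `20` roots.
-/

set_option autoImplicit false
set_option linter.unusedSectionVars false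
set_option maxRecDepth 100000

namespace Cfsg.Agent.H76.RG

open CoxeterSystem Cfsg Cfsg.Lie Cfsg.Lie.ChevalleyDatum
open Cfsg.Agent.ChevalleyStructure Cfsg.Agent.ChevalleyStructure.Elts Cfsg.Agent.ChevalleyStructure.CoxeterGeom
  Cfsg.Agent.ChevalleyStructure.CoxeterGeomTypes
open Cfsg.Agent.Tits.Roots Cfsg.Agent.Tits.Core Cfsg.Agent.Nodes.Reps Cfsg.Agent.Nodes.RGDChev Cfsg.Agent.Nodes.Coroot
  Cfsg.Agent.KFacts.RgdSL
open Cfsg.Agent.H400.TwoExc Cfsg.Agent.H897.IF Cfsg.Agent.H76.RG.T8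
open Cfsg.Agent.H931.KC (hr)

/-- a row of the table -/
abbrev Row := List ℤ × List ℤ × ℕ

/-- the vector of a row -/
def V (p : Row) : Fin 8 → ℤ := toV p.1

/-- the nodes -/
def cfn (c : Fin 8 → ℕ) (c0 : ℕ) (i : ℕ) : ℕ := if h : i < 8 then c ⟨i, h⟩ else c0

/-- the nonzero nodes -/
def Jm (c : Fin 8 → ℕ) (c0 : ℕ) : ℕ := msk (fun i => cfn c c0 i != 0) (List.range 9)

theorem hr8 (i : Fin 8) : hr chevE8 8 i = ([2, 3, 4, 6, 5, 4, 3, 2] : List ℤ).getD i 0 := by
  revert i; decide +kernel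

theorem V_inj : ∀ p ∈ PE8, ∀ q ∈ PE8, V p = V q → p = q :=
  fun _ hp _ hq e => List.inj_on_of_nodup_map tb8.H.nodup hp hq e

section

variable {M : CoxeterMatrix (Fin 8)} (hp : IsType chevE8 8 M) {W : Type*} [Group W] (cs : CoxeterSystem M W)

/-- the number of rows -/
theorem ncard_rows (F : Row → Bool) : {x | ∃ p ∈ PE8, F p = true ∧ x = V p}.ncard = PE8.countP F := by
  have h1 : {x | ∃ p ∈ PE8, F p = true ∧ x = V p} = (((PE8.filter F).map V).toFinset : Set (Fin 8 → ℤ)) := by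
    ext x
    simp only [List.coe_toFinset, List.mem_map, List.mem_filter]
    constructor
    · rintro ⟨p, hp, h2, rfl⟩
      exact ⟨p, ⟨hp, h2⟩, rfl⟩
    · rintro ⟨p, ⟨hp, h2⟩, rfl⟩
      exact ⟨p, hp, h2, rfl⟩
  rw [h1, Set.ncard_coe_finset, List.toFinset_card_of_nodup, List.length_map, List.countP_eq_length_filter]
  have h2 : (PE8.map V).Nodup := tb8.H.nodup
  exact h2.sublist (List.filter_sublist.map V)

/-- the condition for a root -/
def Cd (c : Fin 8 → ℕ) (c0 : ℕ) (a : Fin 8 → ℤ) : Prop :=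
  (∀ i, a i ≠ 0 → c i = 0) ∨ (c0 = 0 ∧ ∀ i, a i ≠ hr chevE8 8 i → c i = 0)

theorem inJ_iff (c : Fin 8 → ℕ) (c0 : ℕ) (p : Row) : inJ (Jm c c0) (wrow p) = true ↔ Cd c c0 (V p) := by
  have e1 : ∀ i : Fin 8, cfn c c0 i = c i := fun i => by simp [cfn]
  have e2 : cfn c c0 8 = c0 := by simp [cfn]
  unfold inJ
  rw [Bool.or_eq_true, beq_iff_eq, beq_iff_eq]
  refine or_congr ?_ ?_
  · change pmask p.1 &&& Jm c c0 = 0 ↔ _
    rw [pmask, Jm, msk_and, msk_eq_zero]
    constructor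
    · intro h1 i hi
      have h2 := h1 i (List.mem_range.2 (by have := i.2; omega))
      have h3 : (i : ℕ) ≠ 8 := by have := i.2; omega
      have h4 : p.1.getD i 0 ≠ 0 := hi
      by_contra h5
      have h6 : cfn c c0 i ≠ 0 := by rw [e1]; exact h5
      simp only [Bool.and_eq_false_iff, bne_eq_false_iff_eq] at h2
      rcases h2 with (h2 | h2) | h2
      · exact h3 h2
      · exact h4 h2
      · exact h6 h2
    · intro h1 i hi
      rw [List.mem_range] at hi
      by_cases h3 : i = 8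
      · subst h3; simp
      · have h4 : i < 8 := by omega
        by_cases h5 : p.1.getD i 0 = 0
        · simp only [Bool.and_eq_false_iff, bne_eq_false_iff_eq]
          exact Or.inl (Or.inr h5)
        · have h6 := h1 ⟨i, h4⟩ h5
          have h7 : cfn c c0 i = 0 := by rw [← h6, ← e1]
          simp [h7]
  · change nmask p.1 &&& Jm c c0 = 0 ↔ _
    rw [nmask, Jm, msk_and, msk_eq_zero]
    constructor
    · intro h1
      refine ⟨?_, fun i hi => ?_⟩
      · have h2 := h1 8 (by decide)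
        by_contra h5
        simp [e2, h5] at h2
      · have h2 := h1 i (List.mem_range.2 (by have := i.2; omega))
        rw [hr8] at hi
        have h4 : p.1.getD i 0 ≠ ([2, 3, 4, 6, 5, 4, 3, 2] : List ℤ).getD i 0 := hi
        by_contra h5
        have h6 : cfn c c0 i ≠ 0 := by rw [e1]; exact h5
        simp only [Bool.and_eq_false_iff, Bool.or_eq_false_iff, bne_eq_false_iff_eq] at h2
        rcases h2 with h2 | h2
        · exact h4 h2.2
        · exact h6 h2
    · rintro ⟨h0, h1⟩ i hi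
      rw [List.mem_range] at hi
      by_cases h3 : i = 8
      · subst h3
        rw [e2, h0]
        rfl
      · have h4 : i < 8 := by omega
        by_cases h5 : p.1.getD i 0 = ([2, 3, 4, 6, 5, 4, 3, 2] : List ℤ).getD i 0
        · have h6 : (i == 8) = false := by simpa using h3
          simp only [Bool.and_eq_false_iff, Bool.or_eq_false_iff, bne_eq_false_iff_eq]
          exact Or.inl ⟨h6, h5⟩
        · have h6 := h1 ⟨i, h4⟩ (by rw [hr8]; exact h5)
          have h7 : cfn c c0 i = 0 := by rw [← h6, ← e1]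
          simp [h7]

theorem Jm_lt (c : Fin 8 → ℕ) (c0 : ℕ) : Jm c c0 < 512 := msk_lt _ _

theorem Jm_ne {c : Fin 8 → ℕ} {c0 : ℕ} (hne : c0 = 0 → ∃ i, c i ≠ 0) : Jm c c0 ≠ 0 := by
  intro h1
  rw [Jm, msk_eq_zero] at h1
  have h2 : c0 = 0 := by
    have := h1 8 (by decide)
    simpa [cfn] using this
  obtain ⟨i, hi⟩ := hne h2
  have := h1 i (List.mem_range.2 (by have := i.2; omega))
  simp [cfn] at this
  exact hi this

theorem Jm_sixteen {c : Fin 8 → ℕ} {c0 : ℕ} (h : Jm c c0 = 16) : c0 = 0 ∧ ∀ i, c i = 0 ↔ i ≠ 4 := by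
  have e : msk (fun i => i == 4) (List.range 9) = 16 := by decide +kernel
  rw [← e, Jm, msk_congr] at h
  constructor
  · have := h 8 (by decide)
    simpa [cfn] using this
  · intro i
    have h1 := h i (List.mem_range.2 (by have := i.2; omega))
    have h2 : cfn c c0 i = c i := by simp [cfn]
    rw [h2] at h1
    have h3 : ((i : ℕ) = 4) ↔ i = 4 := by
      constructor
      · intro h; exact Fin.ext h
      · rintro rfl; rfl
    rw [Bool.eq_iff_iff] at h1
    simp only [bne_iff_ne, beq_iff_eq] at h1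
    rw [h3] at h1
    constructor
    · intro h4 h5; exact (h1.2 h5) h4
    · intro h4; by_contra h5; exact h4 (h1.1 h5)

variable [Finite W] {Φ : Set (Fin 8 → ℤ)} (hΦ : RSet cs hp.isCartan Φ) {c : Fin 8 → ℕ} {c0 : ℕ}
  (hmem : ∀ a, IsRoot cs hp.isCartan a → 0 ≤ a → (a ∈ Φ ↔ Cd c c0 a))

include hmem

theorem mem_row {p : Row} (hpP : p ∈ PE8) : V p ∈ Φ ↔ inJ (Jm c c0) (wrow p) = true := by
  rw [inJ_iff]
  exact hmem _ (tb8.root hpP) (tb8.H.pos _ (List.mem_map.2 ⟨p, hpP, rfl⟩))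

theorem pos_row {x : Fin 8 → ℤ} (hx : IsRoot cs hp.isCartan x) (h0 : 0 ≤ x) : ∃ p ∈ PE8, x = V p := by
  obtain ⟨p, hpP, e | e⟩ := tb8.cases (cs := cs) (h := hp.isCartan) hx
  · exact ⟨p, hpP, e⟩
  · exfalso
    have h1 := tb8.H.pos _ (List.mem_map.2 ⟨p, hpP, rfl⟩)
    rw [e] at h0
    exact (tb8.root (cs := cs) (h := hp.isCartan) hpP).not_pos_neg h1 (neg_nonneg.1 h0)

include hΦ

theorem pos_eq : {a | a ∈ Φ ∧ 0 ≤ a} = {x | ∃ p ∈ PE8, inJ (Jm c c0) (wrow p) = true ∧ x = V p} := by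
  ext x
  constructor
  · rintro ⟨hx, h0⟩
    obtain ⟨p, hpP, rfl⟩ := pos_row hp cs hmem (hΦ.root x hx) h0
    exact ⟨p, hpP, (mem_row hp cs hmem hpP).1 hx, rfl⟩
  · rintro ⟨p, hpP, h1, rfl⟩
    exact ⟨(mem_row hp cs hmem hpP).2 h1, tb8.H.pos _ (List.mem_map.2 ⟨p, hpP, rfl⟩)⟩

theorem ncard_phi : {a | a ∈ Φ ∧ 0 ≤ a}.ncard = popc 120 (msk (inJ (Jm c c0)) W8) := by
  rw [pos_eq hp cs hΦ hmem, ncard_rows, W8_eq, msk_map, ← len8, popc_msk]

theorem cpr_row' {p q : Row} (hpP : p ∈ PE8) (hqP : q ∈ PE8) : cpr cs hp.isCartan (V q) (V p) = dotL p.2.1 q.1 :=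
  tb8.cpr_row (sl8 hp cs) hpP hqP

theorem nb_row {p : Row} (hpP : p ∈ PE8) (hpF : V p ∈ Φ) :
    nb cs hp.isCartan Φ (V p) + 1 = popc 120 (Nat.land (amask p) (msk (inJ (Jm c c0)) W8)) := by
  rw [nb_add_one (sl8 hp cs) hΦ hpF (tb8.H.pos _ (List.mem_map.2 ⟨p, hpP, rfl⟩))]
  have h1 : {x | (x ∈ Φ ∧ 0 ≤ x) ∧ cpr cs hp.isCartan x (V p) ≠ 0} =
      {x | ∃ q ∈ PE8, (dotL p.2.1 q.1 != 0 && inJ (Jm c c0) (wrow q)) = true ∧ x = V q} := by
    ext x
    constructor
    · rintro ⟨⟨hx, h0⟩, h2⟩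
      obtain ⟨q, hqP, rfl⟩ := pos_row hp cs hmem (hΦ.root x hx) h0
      rw [cpr_row' hp cs hΦ hmem hpP hqP] at h2
      refine ⟨q, hqP, ?_, rfl⟩
      rw [Bool.and_eq_true]
      exact ⟨bne_iff_ne.2 h2, (mem_row hp cs hmem hqP).1 hx⟩
    · rintro ⟨q, hqP, h2, rfl⟩
      rw [Bool.and_eq_true] at h2
      refine ⟨⟨(mem_row hp cs hmem hqP).2 h2.2, tb8.H.pos _ (List.mem_map.2 ⟨q, hqP, rfl⟩)⟩, ?_⟩
      rw [cpr_row' hp cs hΦ hmem hpP hqP]
      exact bne_iff_ne.1 h2.1
  rw [h1, ncard_rows, W8_eq, msk_map]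
  change _ = popc 120 (amask p &&& msk (fun a => inJ (Jm c c0) (wrow a)) PE8)
  rw [amask, msk_and, ← len8, popc_msk]

/-- invariant of `okc` -/
def Inv (cs : CoxeterSystem M W) (g : Row → Bool) (Φ : Set (Fin 8 → ℤ)) : Prop :=
  (∀ q ∈ PE8, g q = true → V q ∈ Φ) ∧ ∀ q ∈ PE8, ∀ q' ∈ PE8, g q = true → g q' = true → Cn cs hp.isCartan Φ (V q) (V q')

theorem okc_spec {isB : Row → Bool} (hB : ∀ q ∈ PE8, isB q = true → V q ∈ Φ) (l : List Row) (hl : ∀ b ∈ l, b ∈ PE8)
    (g : Row → Bool) (hg : Inv hp cs g Φ)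
    (hok : T8.okc (msk isB PE8) (l.map fun p => (msk (fun q : Row => q.1 == p.1) PE8, amask p)) (msk g PE8) = true) :
    ∀ q ∈ PE8, ∀ q' ∈ PE8, isB q = true → isB q' = true → Cn cs hp.isCartan Φ (V q) (V q') := by
  induction l generalizing g with
  | nil =>
    rw [List.map_nil, T8.okc, beq_iff_eq, msk_congr] at hok
    intro q hq q' hq' h1 h2
    exact hg.2 q hq q' hq' (by rw [hok q hq]; exact h1) (by rw [hok q' hq']; exact h2)
  | cons b l ih =>
    rw [List.map_cons, T8.okc] at hok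
    split_ifs at hok with h1
    · exact ih (fun x hx => hl x (List.mem_cons_of_mem _ hx)) g hg hok
    · rw [Bool.and_eq_true] at hok
      obtain ⟨h2, h3⟩ := hok
      have hbP : b ∈ PE8 := hl b List.mem_cons_self
      -- `b` is in `B`
      have hbΦ : V b ∈ Φ := by
        by_contra hcon
        apply h1
        rw [beq_iff_eq]
        change msk (fun q : Row => q.1 == b.1) PE8 &&& msk isB PE8 = 0
        rw [msk_and, msk_eq_zero]
        intro q hq
        by_cases h4 : q.1 = b.1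
        · by_cases h5 : isB q = true
          · exfalso
            apply hcon
            have h6 := hB q hq h5
            have e : V q = V b := by unfold V; rw [h4]
            rwa [e] at h6
          · simp [h5]
        · simp [h4]
      have e3 : Nat.lor (msk g PE8) (msk (fun q : Row => q.1 == b.1) PE8) =
          msk (fun q : Row => g q || q.1 == b.1) PE8 := msk_or _ _ _
      rw [e3] at h3
      refine ih (fun x hx => hl x (List.mem_cons_of_mem _ hx)) _ ?_ h3
      have hV : ∀ q : Row, (q.1 == b.1) = true → V q = V b := by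
        intro q hq
        rw [beq_iff_eq] at hq
        unfold V; rw [hq]
      -- `b` is connected to the others
      have hconn : ∀ q ∈ PE8, g q = true → Cn cs hp.isCartan Φ (V q) (V b) := by
        intro q hq hgq
        rw [Bool.or_eq_true] at h2
        rcases h2 with h2 | h2
        · rw [beq_iff_eq, msk_eq_zero] at h2
          rw [h2 q hq] at hgq
          exact absurd hgq (by simp)
        · rw [bne_iff_ne] at h2
          change amask b &&& msk g PE8 ≠ 0 at h2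
          rw [amask, msk_and, Ne, msk_eq_zero] at h2
          push Not at h2
          obtain ⟨q0, hq0, h4⟩ := h2
          have h5 : (dotL b.2.1 q0.1 != 0) = true ∧ g q0 = true := by
            rw [← Bool.and_eq_true]
            simpa using h4
          refine (hg.2 q hq q0 hq0 hgq h5.2).trans ?_
          refine (Cn.of hbΦ (hg.1 q0 hq0 h5.2) ?_).symm hΦ
          rw [cpr_row' hp cs hΦ hmem hbP hq0]
          exact bne_iff_ne.1 h5.1
      refine ⟨fun q hq h4 => ?_, fun q hq q' hq' h4 h5 => ?_⟩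
      · rw [Bool.or_eq_true] at h4
        rcases h4 with h4 | h4
        · exact hg.1 q hq h4
        · rw [hV q h4]; exact hbΦ
      · rw [Bool.or_eq_true] at h4 h5
        rcases h4 with h4 | h4 <;> rcases h5 with h5 | h5
        · exact hg.2 q hq q' hq' h4 h5
        · rw [hV q' h5]; exact hconn q hq h4
        · rw [hV q h4]; exact (hconn q' hq' h5).symm hΦ
        · rw [hV q h4, hV q' h5]; exact Relation.ReflTransGen.refl

/-- **The table**, positive form. -/
theorem tab_phi (hne : c0 = 0 → ∃ i, c i ≠ 0) :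
    {a | a ∈ Φ ∧ 0 ≤ a}.ncard ≤ 13 ∨ ({a | a ∈ Φ ∧ 0 ≤ a}.ncard = 20 ∧ c0 = 0 ∧ ∀ i, c i = 0 ↔ i ≠ 4) ∨
      ((∃ a ∈ Φ, 6 ≤ nb cs hp.isCartan Φ a) ∧
        (∀ a ∈ Φ, ∀ b ∈ Φ, 6 ≤ nb cs hp.isCartan Φ a → 6 ≤ nb cs hp.isCartan Φ b → Cn cs hp.isCartan Φ a b) ∧
        10 ≤ {a | (a ∈ Φ ∧ 6 ≤ nb cs hp.isCartan Φ a) ∧ 0 ≤ a}.ncard) := by
  classical
  have hc := chk_all ⟨Jm c c0, Jm_lt c c0⟩ (by
    intro h1
    exact Jm_ne hne (congrArg Fin.val h1))
  change chk (Jm c c0) = true at hc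
  rw [ncard_phi hp cs hΦ hmem]
  set J := Jm c c0 with hJ
  set P := msk (inJ J) W8 with hP
  unfold chk at hc
  simp only [← hP, Bool.or_eq_true, Bool.and_eq_true, beq_iff_eq] at hc
  rcases hc with (h1 | ⟨h1, h2⟩) | h1
  · exact Or.inl (Nat.le_of_ble_eq_true h1)
  · exact Or.inr (Or.inl ⟨h2, Jm_sixteen h1⟩)
  · right; right
    -- the function `isB`
    set isB : Row → Bool := fun p => (wrow p).2.2.2 && (inJ J (wrow p) && Nat.ble 7 (popc 120 (Nat.land (amask p) P))) with hisB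
    have eB : msk (fun w => w.2.2.2 && (inJ J w && Nat.ble 7 (popc 120 (Nat.land w.2.2.1 P)))) W8 = msk isB PE8 := by
      rw [W8_eq, msk_map]
      rfl
    rw [eB] at h1
    unfold chkB at h1
    simp only [Bool.and_eq_true] at h1
    obtain ⟨⟨⟨h2, h3⟩, h4⟩, h5⟩ := h1
    have hBΦ : ∀ q ∈ PE8, isB q = true → V q ∈ Φ := by
      intro q hq h6
      rw [hisB] at h6
      simp only [Bool.and_eq_true] at h6
      exact (mem_row hp cs hmem hq).2 h6.2.1
    have hBnb : ∀ q ∈ PE8, isB q = true → 6 ≤ nb cs hp.isCartan Φ (V q) := by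
      intro q hq h6
      have h7 := nb_row hp cs hΦ hmem hq (hBΦ q hq h6)
      rw [← hJ, ← hP] at h7
      rw [hisB] at h6
      simp only [Bool.and_eq_true] at h6
      have h8 := Nat.le_of_ble_eq_true h6.2.2
      omega
    have hBc : ∀ q ∈ PE8, ∀ q' ∈ PE8, isB q = true → isB q' = true → Cn cs hp.isCartan Φ (V q) (V q') := by
      refine okc_spec hp cs hΦ hmem hBΦ NR NR_spec.2 (fun _ => false) ⟨fun q _ h => absurd h (by simp), fun q _ q' _ h => absurd h (by simp)⟩ ?_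
      have e0 : msk (fun _ : Row => false) PE8 = 0 := msk_eq_zero.2 fun _ _ => rfl
      rw [e0, ← N8_eq]
      exact h3
    -- a row in `Φ` with many neighbours is connected to `B`
    have hrow : ∀ p ∈ PE8, V p ∈ Φ → Nat.land (amask p) (msk isB PE8) ≠ 0 →
        ∃ q ∈ PE8, isB q = true ∧ Cn cs hp.isCartan Φ (V p) (V q) := by
      intro p hpP hpF h6
      change amask p &&& msk isB PE8 ≠ 0 at h6
      rw [amask, msk_and, Ne, msk_eq_zero] at h6
      push Not at h6
      obtain ⟨q, hq, h7⟩ := h6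
      have h8 : (dotL p.2.1 q.1 != 0) = true ∧ isB q = true := by
        rw [← Bool.and_eq_true]
        simpa using h7
      refine ⟨q, hq, h8.2, Cn.of hpF (hBΦ q hq h8.2) ?_⟩
      rw [cpr_row' hp cs hΦ hmem hpP hq]
      exact bne_iff_ne.1 h8.1
    have hrow' : ∀ p ∈ PE8, V p ∈ Φ → 6 ≤ nb cs hp.isCartan Φ (V p) →
        ∃ q ∈ PE8, isB q = true ∧ Cn cs hp.isCartan Φ (V p) (V q) := by
      intro p hpP hpF h6
      refine hrow p hpP hpF ?_
      rw [List.all_eq_true] at h4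
      have h7 := h4 (wrow p) (by rw [W8_eq]; exact List.mem_map.2 ⟨p, hpP, rfl⟩)
      have h8 := nb_row hp cs hΦ hmem hpP hpF
      rw [← hJ, ← hP] at h8
      have h9 : inJ J (wrow p) = true := (mem_row hp cs hmem hpP).1 hpF
      simp only [Bool.or_eq_true, h9, Bool.not_true, bne_iff_ne] at h7
      rcases h7 with h7 | h7 | h7
      · exact absurd h7 (by simp)
      · exact h7
      · exfalso
        have h10 := Nat.le_of_ble_eq_true h7
        have h11 : popc 120 (Nat.land (amask p) P) ≤ 6 := h10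
        omega
    have hall : ∀ a ∈ Φ, 6 ≤ nb cs hp.isCartan Φ a → ∃ q ∈ PE8, isB q = true ∧ Cn cs hp.isCartan Φ a (V q) := by
      intro a ha hna
      rcases (hΦ.root a ha).pos_or_neg with h0 | h0
      · obtain ⟨p, hpP, rfl⟩ := pos_row hp cs hmem (hΦ.root a ha) h0
        exact hrow' p hpP ha hna
      · obtain ⟨p, hpP, e⟩ := pos_row hp cs hmem (hΦ.root a ha).neg (neg_nonneg.2 h0)
        have h6 := hΦ.neg a ha
        obtain ⟨q, hq, h7, h8⟩ := hrow' p hpP (by rw [← e]; exact h6) (by rw [← e, nb_neg hΦ]; exact hna)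
        rw [← e] at h8
        exact ⟨q, hq, h7, (Cn.neg hΦ ha).trans h8⟩
    refine ⟨?_, ?_, ?_⟩
    · rw [bne_iff_ne, Ne, msk_eq_zero] at h2
      push Not at h2
      obtain ⟨q, hq, h6⟩ := h2
      have h7 : isB q = true := by simpa using h6
      exact ⟨V q, hBΦ q hq h7, hBnb q hq h7⟩
    · intro a ha b hb hna hnb
      obtain ⟨q, hq, h6, h7⟩ := hall a ha hna
      obtain ⟨q', hq', h8, h9⟩ := hall b hb hnb
      exact (h7.trans (hBc q hq q' hq' h6 h8)).trans (h9.symm hΦ)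
    · have h6 := Nat.le_of_ble_eq_true h5
      rw [W8_eq, msk_map, ← len8, popc_msk, ← ncard_rows] at h6
      refine h6.trans (Set.ncard_le_ncard ?_ (hΦ.finite.subset fun a ha => ha.1.1))
      rintro x ⟨p, hpP, h7, rfl⟩
      rw [Bool.and_eq_true] at h7
      have hpF : V p ∈ Φ := (mem_row hp cs hmem hpP).2 h7.1
      have h8 : Nat.land (amask p) (msk isB PE8) ≠ 0 := by
        have := bne_iff_ne.1 h7.2
        exact this
      obtain ⟨q, hq, h9, h10⟩ := hrow p hpP hpF h8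
      refine ⟨⟨hpF, ?_⟩, tb8.H.pos _ (List.mem_map.2 ⟨p, hpP, rfl⟩)⟩
      rw [h10.nb (sl8 hp cs) hΦ]
      exact hBnb q hq h9

omit hΦ hmem

/-- **The table.** -/
theorem e8_table {S : Set (Fin 8 → ℤ)} (hS : RSet cs hp.isCartan S) (w : W) (c : Fin 8 → ℕ) (c0 : ℕ)
    (hne : c0 = 0 → ∃ i, c i ≠ 0)
    (hmem : ∀ a, IsRoot cs hp.isCartan a → 0 ≤ a → (rep cs hp.isCartan w a ∈ S ↔ Cd c c0 a)) :
    {a | a ∈ S ∧ 0 ≤ a}.ncard ≤ 13 ∨ ({a | a ∈ S ∧ 0 ≤ a}.ncard = 20 ∧ c0 = 0 ∧ ∀ i, c i = 0 ↔ i ≠ 4) ∨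
      ((∃ a ∈ S, 6 ≤ nb cs hp.isCartan S a) ∧
        (∀ a ∈ S, ∀ b ∈ S, 6 ≤ nb cs hp.isCartan S a → 6 ≤ nb cs hp.isCartan S b →
          Relation.ReflTransGen (fun x y => y ∈ S ∧ cpr cs hp.isCartan y x ≠ 0) a b) ∧
        20 ≤ {a | a ∈ S ∧ 6 ≤ nb cs hp.isCartan S a}.ncard) := by
  have hΦ := hS.pull w
  have h1 := tab_phi hp cs hΦ (c := c) (c0 := c0) hmem hne
  have e1 : {a | a ∈ {a | rep cs hp.isCartan w a ∈ S} ∧ 0 ≤ a}.ncard = {a | a ∈ S ∧ 0 ≤ a}.ncard := by
    have h2 := ncard_pos hΦ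
    have h3 := ncard_pos hS
    rw [ncard_pull (cs := cs) (h := hp.isCartan) w, h2] at h3
    omega
  rw [e1] at h1
  refine h1.imp_right (Or.imp_right fun ⟨⟨a, ha, hna⟩, h3, h4⟩ => ⟨⟨_, ha, by rw [nb_pull]; exact hna⟩, ?_, ?_⟩)
  · intro x hx y hy hnx hny
    obtain ⟨a, rfl⟩ := (rep_bij (cs := cs) (h := hp.isCartan) w).2 x
    obtain ⟨b, rfl⟩ := (rep_bij (cs := cs) (h := hp.isCartan) w).2 y
    have h5 := h3 a hx b hy (by rw [← nb_pull]; exact hnx) (by rw [← nb_pull]; exact hny)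
    exact (h5.push hS).chain
  · have hsl := sl8 hp cs
    have hE : RSet cs hp.isCartan {a | a ∈ S ∧ 6 ≤ nb cs hp.isCartan S a} :=
      { root := fun a ha => hS.root a ha.1
        neg := fun a ha => ⟨hS.neg a ha.1, by rw [nb_neg hS]; exact ha.2⟩
        add := fun a ha b hb hab => by
          have h5 := hS.add a ha.1 b hb.1 hab
          refine ⟨h5, ?_⟩
          by_cases hc : cpr cs hp.isCartan (a + b) a = 0
          · exfalso
            have ra := hS.root a ha.1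
            have rb := hS.root b hb.1
            rw [cpr_add cs _ _ _ ra, cpr_self cs _ ra] at hc
            rcases hsl.cases rb ra with ⟨e, -⟩ | ⟨e, -⟩ | ⟨-, -, h6, h7⟩
            · rw [e, cpr_self cs _ ra] at hc
              omega
            · rw [e, add_neg_cancel] at hab
              exact hab.ne_zero rfl
            · omega
          · rw [← nb_eq hsl hS ha.1 h5 hc]; exact ha.2
        refl := fun a ha b hb => by
          have h5 := hS.refl a ha.1 b hb.1
          refine ⟨h5, ?_⟩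
          have rb := hS.root b hb.1
          by_cases hc : cpr cs hp.isCartan a b = 0
          · rw [hc, zero_smul, sub_zero]; exact ha.2
          · rw [← nb_eq hsl hS hb.1 h5 (by
              rw [cpr_sub' rb, cpr_smul cs _ _ _ rb, cpr_self cs _ rb]
              intro h6; apply hc; omega)]
            exact hb.2 }
    have h5 := ncard_pos hE
    have h6 := ncard_pos (hE.pull w)
    rw [h5]
    rw [← ncard_pull (cs := cs) (h := hp.isCartan) w, h5] at h6
    have h7 : {a | a ∈ {a | rep cs hp.isCartan w a ∈ {a | a ∈ S ∧ 6 ≤ nb cs hp.isCartan S a}} ∧ 0 ≤ a} =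
        {a | (a ∈ {a | rep cs hp.isCartan w a ∈ S} ∧ 6 ≤ nb cs hp.isCartan {a | rep cs hp.isCartan w a ∈ S} a) ∧ 0 ≤ a} := by
      ext a
      constructor
      · rintro ⟨⟨h8, h9⟩, h0⟩
        exact ⟨⟨h8, by rw [← nb_pull]; exact h9⟩, h0⟩
      · rintro ⟨⟨h8, h9⟩, h0⟩
        exact ⟨⟨h8, by rw [nb_pull]; exact h9⟩, h0⟩
    rw [h7] at h6
    omega

end

end Cfsg.Agent.H76.RG
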